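import Groth.Agent.L23.TwDesc.Gerbe.Lifts
import Groth.Agent.L23.TwDesc.Hom
import Groth.Prelude.Def_TwSh

/-!
# Pieces of a gerbe and the action of the band
-/

universe w' v' w v u

open CategoryTheory CategoryTheory.Limits AlgebraicGeometry Opposite TopologicalSpace

set_option backward.isDefEq.respectTransparency false
set_option backward.isDefEq.respectTransparency.types false
set_option linter.style.haveILetI false
set_option linter.unusedSectionVars false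
set_option linter.unusedVariables false

noncomputable section

namespace Groth.L23.TwDesc

open StMod
open Groth.L23.RelGen

variable {S : Scheme.{u}} {𝒳 : BasedCategory.{v, w} (Over S)} {𝒴 : BasedCategory.{v', w'} (Over S)} (π : 𝒳 ⥤ᵇ 𝒴)
  (h𝒳 : FibCat.IsFibGrpd 𝒳.p) (h𝒴 : FibCat.IsFibGrpd 𝒴.p)

theorem isCov_self (x : 𝒳.obj) : Groth.L19.QCohFpqc.IsCov (fun _ : PUnit.{u + 1} => bmap 𝒳 (𝟙 x)) :=
  ⟨fun _ => by rw [bmap_id]; infer_instance, fun q => ⟨⟨⟩, q, by rw [bmap_id]; rfl⟩⟩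

/-- All affine objects as pieces. -/
def allPieces : Pieces.{w} 𝒳 where
  fib := h𝒳
  J := {x : 𝒳.obj // IsAffine (sch 𝒳 x)}
  o j := j.1
  aff j := j.2
  lift z hz j t := ⟨⟨z, hz⟩, ⟨Iso.refl z⟩⟩
  loc x hx := ⟨PUnit, inferInstance, fun _ => ⟨x, hx⟩, fun _ => 𝟙 x, isCov_self x⟩

/-- Images of affine objects as pieces of the base of a gerbe. -/
def gerbePieces (hobj : Gerb.LocSurjObj (QuotSh.J Scheme.fppfPrecoverage S) π) : Pieces.{w} 𝒴 where
  fib := h𝒴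
  J := {x : 𝒳.obj // IsAffine (sch 𝒳 x)}
  o j := π.obj j.1
  aff j := isAffine_map_obj π j.2
  lift z hz j t := by
    obtain ⟨y, k, i, -⟩ := exists_iso_map π h𝒳 h𝒴 t
    haveI := bmap_iso i
    haveI := hz
    exact ⟨⟨y, (isAffine_obj_iff π y).1 (IsAffine.of_isIso (bmap 𝒴 i.hom))⟩, ⟨i⟩⟩
  loc η hη := by
    obtain ⟨ι, hι, x, g, hx, hcov⟩ := exists_objLift π hobj h𝒳 hη
    exact ⟨ι, hι, fun l => ⟨x l, hx l⟩, g, hcov⟩

include h𝒳 h𝒴 in
/-- Two morphisms with the same image differ by the band. -/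
theorem exists_band_factor {A : (Over S)ᵒᵖ ⥤ GrpCat.{u}} (ι : TwSh.BandHom 𝒳 A)
    (hker : ∀ x : 𝒳.obj, (Gerb.autMap π x).ker ≤ (ι.hom x).range)
    {x' x : 𝒳.obj} (k k' : x' ⟶ x) (hk : π.map k = π.map k') :
    ∃ a, (ι.hom x' a).hom.1 ≫ k = k' := by
  have hp : 𝒳.p.map k = 𝒳.p.map k' := by
    have h := congrArg 𝒴.p.map hk
    rw [p_map_map, p_map_map] at h
    exact (cancel_mono _).1 ((cancel_epi _).1 h)
  obtain ⟨t, ⟨ht, ht'⟩, -⟩ := RelGen.existsUnique_factor h𝒳 k' k (𝟙 _) (by rw [Category.id_comp, hp])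
  obtain ⟨t₂, ⟨ht₂, ht₂'⟩, -⟩ := RelGen.existsUnique_factor h𝒳 k k' (𝟙 _) (by rw [Category.id_comp, hp])
  have hid : ∀ s : x' ⟶ x', 𝒳.p.map s = 𝟙 _ → 𝒳.p.IsHomLift (𝟙 (𝒳.p.obj x')) s := fun s hs =>
    IsHomLift.of_fac' 𝒳.p _ s rfl rfl (by simpa using hs)
  have h₁ : t ≫ t₂ = 𝟙 x' :=
    (RelGen.existsUnique_factor h𝒳 k' k' (𝟙 _) (Category.id_comp _)).unique
      ⟨by rw [Functor.map_comp, ht, ht₂, Category.id_comp], by rw [Category.assoc, ht₂', ht']⟩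
      ⟨𝒳.p.map_id _, Category.id_comp _⟩
  have h₂ : t₂ ≫ t = 𝟙 x' :=
    (RelGen.existsUnique_factor h𝒳 k k (𝟙 _) (Category.id_comp _)).unique
      ⟨by rw [Functor.map_comp, ht, ht₂, Category.id_comp], by rw [Category.assoc, ht', ht₂']⟩
      ⟨𝒳.p.map_id _, Category.id_comp _⟩
  let α : Gerb.AutO x' :=
    { hom := ⟨t, hid t ht⟩
      inv := ⟨t₂, hid t₂ ht₂⟩
      hom_inv_id := Functor.Fiber.hom_ext h₁
      inv_hom_id := Functor.Fiber.hom_ext h₂ }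
  have hπt : π.map t = 𝟙 _ :=
    (RelGen.existsUnique_factor h𝒴 (π.map k) (π.map k) (𝟙 _) (Category.id_comp _)).unique
      ⟨by rw [p_map_map, ht]; simp, by rw [← π.toFunctor.map_comp, ht', hk]⟩
      ⟨𝒴.p.map_id _, Category.id_comp _⟩
  have hα : α ∈ (Gerb.autMap π x').ker := by
    refine MonoidHom.mem_ker.2 (Aut.ext (Functor.Fiber.hom_ext ?_))
    exact hπt
  obtain ⟨a, ha⟩ := hker x' hα
  exact ⟨a, (congrArg (fun β : Gerb.AutO x' => β.hom.1 ≫ k) ha).trans ht'⟩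

theorem resTop_top (X : Scheme.{u}) (r : Γ(X, ⊤)) : TwSh.resTop X ⊤ r = r := by
  show (X.presheaf.map (homOfLE le_top).op).hom r = r
  rw [show (homOfLE le_top : (⊤ : X.Opens) ⟶ ⊤) = 𝟙 _ from Subsingleton.elim _ _, op_id, CategoryTheory.Functor.map_id]
  rfl

/-- The band acts on global sections of a twisted module by a scalar. -/
theorem mapTop_band {A : (Over S)ᵒᵖ ⥤ GrpCat.{u}} {ι : TwSh.BandHom 𝒳 A} {χ : A ⟶ TwSh.GmPsh S} {d : ℤ}
    {F : Mod 𝒳} (hF : TwSh.IsTwisted F ι χ d) {x : 𝒳.obj} (a : A.obj (op (𝒳.p.obj x))) (m : Sec F x) :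
    F.mapTop (ι.hom x a).hom.1 m = ((TwSh.charUnit χ x a ^ d)⁻¹).val • m := by
  rw [← TwSh.inert_app_top, hF x a ⊤ m, resTop_top]

include h𝒳 h𝒴 in
/-- Restrictions of a module with trivial action of the band depend on the image only. -/
theorem mapTop_eq_of_map_eq {A : (Over S)ᵒᵖ ⥤ GrpCat.{u}} {ι : TwSh.BandHom 𝒳 A}
    (hker : ∀ x : 𝒳.obj, (Gerb.autMap π x).ker ≤ (ι.hom x).range) {χ : A ⟶ TwSh.GmPsh S}
    {F : Mod 𝒳} (hF : TwSh.IsTwisted F ι χ 0) {x' x : 𝒳.obj} (k k' : x' ⟶ x) (hk : π.map k = π.map k')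
    (m : Sec F x) : F.mapTop k m = F.mapTop k' m := by
  obtain ⟨a, ha⟩ := exists_band_factor π h𝒳 h𝒴 ι hker k k' hk
  rw [← ha, Mod.mapTop_comp, mapTop_band hF]
  simp

end Groth.L23.TwDesc
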