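import Groth.Agent.L23.TwDesc.Pieces
import Groth.Agent.L23.RelGen.Cast
import Groth.Agent.L15.GerbeDesc.Descent
import Groth.Agent.L09.Gerbe.Scheme
import Groth.Prelude.Def_StGerb

/-!
# Local lifts along a gerbe
-/

universe w' v' w v u

open CategoryTheory CategoryTheory.Limits AlgebraicGeometry Opposite TopologicalSpace

set_option backward.isDefEq.respectTransparency false
set_option backward.isDefEq.respectTransparency.types false
set_option linter.style.haveILetI false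
set_option linter.unusedSectionVars false

noncomputable section

namespace Groth.L23.TwDesc

open StMod
open Groth.L23.RelGen

variable {S : Scheme.{u}} {𝒳 : BasedCategory.{v, w} (Over S)} {𝒴 : BasedCategory.{v', w'} (Over S)} (π : 𝒳 ⥤ᵇ 𝒴)

theorem p_map_map {x' x : 𝒳.obj} (k : x' ⟶ x) :
    𝒴.p.map (π.map k) = eqToHom (π.w_obj x') ≫ 𝒳.p.map k ≫ eqToHom (π.w_obj x).symm :=
  IsHomLift.fac' 𝒴.p (𝒳.p.map k) (π.map k)

theorem bmap_map {x' x : 𝒳.obj} (k : x' ⟶ x) :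
    bmap 𝒴 (π.map k) = eqToHom (sch_obj_eq π x') ≫ bmap 𝒳 k ≫ eqToHom (sch_obj_eq π x).symm := by
  rw [← Category.assoc, ← bmap_map_comm π k rfl, Category.assoc, eqToHom_trans, eqToHom_refl, Category.comp_id]

theorem isAffine_map_obj {x : 𝒳.obj} (h : IsAffine (sch 𝒳 x)) : IsAffine (sch 𝒴 (π.obj x)) :=
  (isAffine_obj_iff π x).2 h

/-- An object over the image of an object is isomorphic to an image. -/
theorem exists_iso_map (h𝒳 : FibCat.IsFibGrpd 𝒳.p) (h𝒴 : FibCat.IsFibGrpd 𝒴.p) {z : 𝒴.obj} {x : 𝒳.obj}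
    (t : z ⟶ π.obj x) : ∃ (y : 𝒳.obj) (k : y ⟶ x) (i : π.obj y ≅ z),
      i.hom ≫ t = π.map k ∧ ∀ (e : 𝒴.p.obj (π.obj y) = 𝒴.p.obj z), 𝒴.p.map i.hom = eqToHom e := by
  obtain ⟨y, k, e, hk⟩ := exists_lift h𝒳 (x := x) (V := 𝒴.p.obj z) (𝒴.p.map t ≫ eqToHom (π.w_obj x))
  have e' : 𝒴.p.obj (π.obj y) = 𝒴.p.obj z := (π.w_obj y).trans e
  have hk' : 𝒴.p.map (π.map k) = eqToHom e' ≫ 𝒴.p.map t := by
    rw [p_map_map, hk]
    simp
  obtain ⟨a, ⟨ha, ha'⟩, -⟩ := RelGen.existsUnique_factor h𝒴 (π.map k) t (eqToHom e') hk'.symm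
  obtain ⟨b, ⟨hb, hb'⟩, -⟩ := RelGen.existsUnique_factor h𝒴 t (π.map k) (eqToHom e'.symm) (by rw [hk']; simp)
  refine ⟨y, k, ⟨a, b, ?_, ?_⟩, ha', fun _ => ha⟩
  · refine (RelGen.existsUnique_factor h𝒴 (π.map k) (π.map k) (𝟙 _) (by simp)).unique ⟨?_, ?_⟩
      ⟨𝒴.p.map_id _, Category.id_comp _⟩
    · rw [Functor.map_comp, ha, hb]; simp
    · rw [Category.assoc, hb', ha']
  · refine (RelGen.existsUnique_factor h𝒴 t t (𝟙 _) (by simp)).unique ⟨?_, ?_⟩ ⟨𝒴.p.map_id _, Category.id_comp _⟩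
    · rw [Functor.map_comp, ha, hb]; simp
    · rw [Category.assoc, ha', hb']

theorem bmap_of_lift {𝒵 : BasedCategory.{v, w} (Over S)} {V : Over S} {a b : 𝒵.obj} (f : V ⟶ 𝒵.p.obj b) (g : a ⟶ b)
    (hg : 𝒵.p.IsHomLift f g) : ∃ e : sch 𝒵 a = V.left, bmap 𝒵 g = eqToHom e ≫ f.left := by
  haveI := hg
  refine ⟨congrArg Comma.left (IsHomLift.domain_eq 𝒵.p f g), ?_⟩
  have h' := congrArg (fun k => k.left) (IsHomLift.fac' 𝒵.p f g)
  simp only [Over.comp_left, Over.eqToHom_left, eqToHom_refl, Category.comp_id] at h'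
  simpa [StMod.bmap] using h'

/-- Affine refinement of a family of objects with maps to an affine scheme. -/
theorem exists_affine_family (h : FibCat.IsFibGrpd 𝒳.p) {U : Scheme.{u}} [IsAffine U] (x : U → 𝒳.obj)
    (v : ∀ t, sch 𝒳 (x t) ⟶ U) (hfl : ∀ t, Flat (v t)) (hfp : ∀ t, LocallyOfFinitePresentation (v t))
    (hs : ∀ t : U, t ∈ Set.range (v t)) :
    ∃ (ι : Type u) (_ : Finite ι) (i : ι → U) (y : ι → 𝒳.obj) (r : ∀ l, y l ⟶ x (i l)),
      (∀ l, IsAffine (sch 𝒳 (y l))) ∧ Groth.L19.QCohFpqc.IsCov (fun l => bmap 𝒳 (r l) ≫ v (i l)) := by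
  obtain ⟨s, V, -, hV, hcov⟩ := Groth.L15.GerbeDesc.exists_refinement v hfl hfp hs (isAffineOpen_top U)
  choose y r hr hrange haff using fun p : s => exists_restrict h (x p.1.1) (V p)
  refine ⟨↥s, inferInstance, fun p => p.1.1, y, r, fun p => haff p (hV p), ⟨fun p => ?_, fun q => ?_⟩⟩
  · haveI := hr p
    haveI := hfl p.1.1
    infer_instance
  · obtain ⟨p, z, hz, hzq⟩ := hcov q trivial
    obtain ⟨w, hw⟩ := (hrange p).symm.subset hz
    exact ⟨p, w, by rw [Scheme.Hom.comp_apply, hw]; exact hzq⟩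

/-- Affine objects of the target are covered by images of affine objects. -/
theorem exists_objLift (h : Gerb.LocSurjObj (QuotSh.J Scheme.fppfPrecoverage S) π)
    (h𝒳 : FibCat.IsFibGrpd 𝒳.p) {η : 𝒴.obj} (hη : IsAffine (sch 𝒴 η)) :
    ∃ (ι : Type u) (_ : Finite ι) (x : ι → 𝒳.obj) (g : ∀ l, π.obj (x l) ⟶ η),
      (∀ l, IsAffine (sch 𝒳 (x l))) ∧ Groth.L19.QCohFpqc.IsCov (fun l => bmap 𝒴 (g l)) := by
  obtain ⟨R, hR, hlift⟩ := h η
  obtain ⟨W, v, hv, hfl, hfp, hs⟩ := Groth.L09.Gerbe.exists_cover_of_mem_J (U := 𝒴.p.obj η) hR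
  choose x g hg using fun t => hlift (v t) (hv t)
  choose e he using fun t => bmap_of_lift (v t) (g t) (hg t)
  haveI : IsAffine (𝒴.p.obj η).left := hη
  obtain ⟨ι, hι, i, y, r, hy, hcov⟩ := exists_affine_family h𝒳 x
    (fun t => eqToHom (sch_obj_eq π (x t)).symm ≫ bmap 𝒴 (g t))
    (fun t => by haveI := hfl t; rw [he]; infer_instance)
    (fun t => by haveI := hfp t; rw [he]; infer_instance)
    (fun t => by
      obtain ⟨z, hz⟩ := hs t
      refine ⟨(eqToHom (e t).symm ≫ eqToHom (sch_obj_eq π (x t))) z, ?_⟩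
      rw [he, ← Scheme.Hom.comp_apply]
      simpa using hz)
  refine ⟨ι, hι, y, fun l => π.map (r l) ≫ g (i l), hy, ⟨fun l => ?_, fun q => ?_⟩⟩
  · rw [bmap_comp, bmap_map, Category.assoc, Category.assoc]
    haveI := hcov.flat l
    infer_instance
  · obtain ⟨l, w, hw⟩ := hcov.surj q
    refine ⟨l, (eqToHom (sch_obj_eq π (y l)).symm) w, ?_⟩
    show bmap 𝒴 (π.map (r l) ≫ g (i l)) _ = q
    rw [← Scheme.Hom.comp_apply, bmap_comp, bmap_map, Category.assoc, Category.assoc, eqToHom_trans_assoc,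
      eqToHom_refl, Category.id_comp]
    exact hw

/-- Morphisms between images lift on a cover. -/
theorem exists_homLift (h : Gerb.LocSurjHom (QuotSh.J Scheme.fppfPrecoverage S) π)
    (h𝒳 : FibCat.IsFibGrpd 𝒳.p) (h𝒴 : FibCat.IsFibGrpd 𝒴.p) {x' x : 𝒳.obj} (hx' : IsAffine (sch 𝒳 x'))
    (β : π.obj x' ⟶ π.obj x) :
    ∃ 𝒵 : Cover x', Finite 𝒵.ι ∧ ∀ l, ∃ k : 𝒵.obj l ⟶ x, π.map k = π.map (𝒵.map l) ≫ β := by
  obtain ⟨y, φ, e, hφ⟩ := exists_lift h𝒳 (x := x) (V := 𝒳.p.obj x')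
    (eqToHom (π.w_obj x').symm ≫ 𝒴.p.map β ≫ eqToHom (π.w_obj x))
  have ee : 𝒴.p.obj (π.obj x') = 𝒴.p.obj (π.obj y) := ((π.w_obj x').trans e.symm).trans (π.w_obj y).symm
  obtain ⟨γ, ⟨hγ, hγ'⟩, -⟩ := RelGen.existsUnique_factor h𝒴 β (π.map φ) (eqToHom ee) (by
    rw [p_map_map, hφ]; simp)
  have hlift : 𝒴.p.IsHomLift (𝟙 (𝒳.p.obj x')) γ := by
    refine IsHomLift.of_fac' 𝒴.p _ γ (π.w_obj x') ((π.w_obj y).trans e) ?_
    rw [hγ]; simp
  obtain ⟨R, hR, hlifts⟩ := h x' y γ hlift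
  obtain ⟨W, v, hv, hfl, hfp, hs⟩ := Groth.L09.Gerbe.exists_cover_of_mem_J (U := 𝒳.p.obj x') hR
  choose x₀ φ₀ ψ₀ hφ₀ hψ₀ hcomm using fun t => hlifts (v t) (hv t)
  choose e₀ he₀ using fun t => bmap_of_lift (v t) (φ₀ t) (hφ₀ t)
  haveI : IsAffine (𝒳.p.obj x').left := hx'
  obtain ⟨ι, hι, i, z, r, hz, hcov⟩ := exists_affine_family h𝒳 x₀ (fun t => bmap 𝒳 (φ₀ t))
    (fun t => by haveI := hfl t; rw [he₀]; infer_instance)
    (fun t => by haveI := hfp t; rw [he₀]; infer_instance)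
    (fun t => by
      obtain ⟨q, hq⟩ := hs t
      refine ⟨eqToHom (e₀ t).symm q, ?_⟩
      rw [he₀, ← Scheme.Hom.comp_apply, eqToHom_trans_assoc, eqToHom_refl, Category.id_comp]
      exact hq)
  refine ⟨⟨ι, z, fun l => r l ≫ φ₀ (i l), hz, ?_⟩, hι, fun l => ⟨r l ≫ ψ₀ (i l) ≫ φ, ?_⟩⟩
  · simp only [bmap_comp]
    exact hcov
  · show π.map (r l ≫ ψ₀ (i l) ≫ φ) = π.map (r l ≫ φ₀ (i l)) ≫ β
    rw [π.toFunctor.map_comp, π.toFunctor.map_comp, π.toFunctor.map_comp, ← hcomm (i l), ← hγ', Category.assoc,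
      Category.assoc]

end Groth.L23.TwDesc
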