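import Groth.Agent.L23.TwDesc.Gerbe.Zero

/-!
# Modules on the base of a gerbe
-/

universe u

open CategoryTheory CategoryTheory.Limits AlgebraicGeometry Opposite TopologicalSpace

set_option backward.isDefEq.respectTransparency false
set_option backward.isDefEq.respectTransparency.types false
set_option linter.style.haveILetI false
set_option linter.unusedSectionVars false
set_option linter.unusedVariables false

noncomputable section

namespace Groth.L23.TwDesc

open StMod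
open Groth.L23.RelGen

variable {S : Scheme.{u}} {𝒳 𝒴 : AlgSt.Cat S} (π : 𝒳 ⥤ᵇ 𝒴)
  (h𝒳 : FibCat.IsFibGrpd 𝒳.p) (h𝒴 : FibCat.IsFibGrpd 𝒴.p)
  (hπ : Gerb.IsGerbeOver (QuotSh.J Scheme.fppfPrecoverage S) π)
include h𝒳 h𝒴 hπ

theorem comapQ_faithful : (comapQ π).Faithful := ⟨fun {G G'} u v h => by
  apply InducedCategory.hom_ext
  refine (gerbePieces π h𝒳 h𝒴 hπ.1).hom_ext G'.property.1 G'.property.2 _ _ fun j m => ?_
  refine (secC π G'.obj j.1).injective ?_
  refine (secC_app π u.hom j.1 m).symm.trans (Eq.trans ?_ (secC_app π v.hom j.1 m))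
  have h' := congrArg InducedCategory.Hom.hom h
  exact congrArg (fun t : Mod.comap π G.obj ⟶ Mod.comap π G'.obj =>
    (t.app j.1).app ⊤ (secC π G.obj j.1 m)) h'⟩

theorem comapQ_full : (comapQ π).Full := ⟨fun {G G'} ψ => by
  let P := gerbePieces π h𝒳 h𝒴 hπ.1
  let ψ' : Mod.comap π G.obj ⟶ Mod.comap π G'.obj := ψ.hom
  let θ : ∀ j : P.J, Sec G.obj (π.obj j.1) →ₗ[Fn (π.obj j.1)] Sec G'.obj (π.obj j.1) := fun j =>
    { toFun := fun m => (secC π G'.obj j.1).symm ((ψ'.app j.1).app ⊤ (secC π G.obj j.1 m))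
      map_add' := fun m m' => by rw [map_add, map_add, map_add]
      map_smul' := fun r m => by
        rw [RingHom.id_apply]
        refine (secC π G'.obj j.1).injective ?_
        rw [AddEquiv.apply_symm_apply, ← castFn_cY π j.1 r, secC_smul, secC_smul, AddEquiv.apply_symm_apply,
          Scheme.Modules.Hom.app_smul] }
  obtain ⟨φ, hφ⟩ := P.exists_hom (E := G.obj) G'.property.1 G'.property.2 θ fun j' j β m => by
    obtain ⟨𝒵, -, h𝒵⟩ := exists_homLift π hπ.2 h𝒳 h𝒴 j'.2 β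
    haveI := j'.2
    refine (secC π G'.obj j'.1).injective ?_
    refine 𝒵.ext ((comapQ π).obj G').property.1 ((comapQ π).obj G').property.2 _ _ fun l => ?_
    obtain ⟨k, hk⟩ := h𝒵 l
    show (Mod.comap π G'.obj).mapTop (𝒵.map l) (secC π G'.obj j'.1 ((secC π G'.obj j'.1).symm _)) =
      (Mod.comap π G'.obj).mapTop (𝒵.map l) (secC π G'.obj j'.1 (G'.obj.mapTop β (θ j m)))
    rw [AddEquiv.apply_symm_apply, Mod.mapTop_app, secC_mapTop, secC_mapTop, ← Mod.mapTop_comp,
      ← Mod.mapTop_comp]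
    show _ = secC π G'.obj (𝒵.obj l) (G'.obj.mapTop (π.map (𝒵.map l) ≫ β) _)
    rw [← hk, ← secC_mapTop, ← secC_mapTop, ← Mod.mapTop_app]
    exact congrArg _ ((secC π G'.obj j.1).apply_symm_apply _).symm
  refine ⟨⟨φ⟩, InducedCategory.hom_ext ?_⟩
  refine (allPieces h𝒳).hom_ext ((comapQ π).obj G').property.1 ((comapQ π).obj G').property.2 _ _ fun j m => ?_
  obtain ⟨m', rfl⟩ := (secC π G.obj j.1).surjective m
  refine (secC_app π φ j.1 m').trans ?_
  refine (congrArg (secC π G'.obj j.1) (hφ j m')).trans ?_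
  exact (secC π G'.obj j.1).apply_symm_apply _⟩

set_option maxHeartbeats 1000000 in
theorem exists_iso_comapQ (F : QCoh 𝒳)
    (hinv : ∀ {z y : 𝒳.obj} (k k' : z ⟶ y), π.map k = π.map k' → ∀ m : Sec F.obj y,
      F.obj.mapTop k m = F.obj.mapTop k' m) :
    ∃ G : QCoh 𝒴, Nonempty (F ≅ (comapQ π).obj G) := by
  have hlift : ∀ {x' x : 𝒳.obj}, IsAffine (sch 𝒳 x') → ∀ β : π.obj x' ⟶ π.obj x,
      ∃ 𝒵 : Cover x', Finite 𝒵.ι ∧ ∀ l, ∃ k : 𝒵.obj l ⟶ x, π.map k = π.map (𝒵.map l) ≫ β :=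
    fun hx' β => exists_homLift π hπ.2 h𝒳 h𝒴 hx' β
  let D : PDatum.{u + 1} 𝒴 :=
    { gerbePieces π h𝒳 h𝒴 hπ.1 with
      M := fun j => secMod π F j.1
      T := fun {j' j} β => act h𝒳 hlift hinv j'.2 β
      T_id := fun j m => isAct_unique h𝒳 hlift hinv j.2 (isAct_act h𝒳 hlift hinv j.2 _ m)
        (fun z hz a k hk => hinv a k (by
          rw [hk]
          exact (Category.comp_id _).symm) m)
      T_comp := fun {j'' j' j} β γ m => isAct_unique h𝒳 hlift hinv j''.2
        (isAct_comp h𝒳 hlift hinv j''.2 (isAct_act h𝒳 hlift hinv j'.2 γ m) (isAct_act h𝒳 hlift hinv j''.2 β _))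
        (isAct_act h𝒳 hlift hinv j''.2 _ m)
      bc := fun {j' j} β => exists_bc_act h𝒳 hlift hinv j'.2 j.2 β }
  refine ⟨D.toQCoh, ?_⟩
  have hb : ∀ j : D.J, Function.Bijective (D.evG (𝟙 (D.o j))) := fun j => PDatum.evG_id_bijective j
  let θ : ∀ j : (allPieces h𝒳).J,
      Sec ((comapQ π).obj D.toQCoh).obj j.1 ≃ₗ[Fn j.1] Sec F.obj j.1 := fun j =>
    LinearEquiv.ofBijective
      { toFun := fun m => (show Sec F.obj j.1 from D.evG (j := j) (𝟙 (π.obj j.1)) ((secC π D.toMod j.1).symm m))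
        map_add' := fun m m' => by
          show D.evG (j := j) (𝟙 (π.obj j.1)) ((secC π D.toMod j.1).symm (m + m')) = _
          rw [map_add, PDatum.evG_add]
        map_smul' := fun r m => by
          show D.evG (j := j) (𝟙 (π.obj j.1)) ((secC π D.toMod j.1).symm (r • m)) = _
          rw [secC_symm_smul, PDatum.evG_smul]
          have e : cY π j.1 (fnMap (𝟙 (π.obj j.1)) (castFn (sch_obj_eq π j.1) r)) = r := by
            rw [fnMap, bmap_id, Scheme.Hom.id_appTop]
            exact cY_castFn π j.1 r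
          exact (secMod_smul π F j.1 _ _).trans
            (congrArg (fun a : Fn j.1 => a • (show Sec F.obj j.1 from
              D.evG (j := j) (𝟙 (π.obj j.1)) ((secC π D.toMod j.1).symm m))) e) }
      ((hb j).comp (secC π D.toMod j.1).symm.bijective)
  refine ((allPieces h𝒳).nonempty_iso ((comapQ π).obj D.toQCoh) F θ fun j' j β m => ?_).map Iso.symm
  show D.evG (j := j') (𝟙 (π.obj j'.1)) ((secC π D.toMod j'.1).symm ((Mod.comap π D.toMod).mapTop β m)) =
    F.obj.mapTop β (show Sec F.obj j.1 from D.evG (j := j) (𝟙 (π.obj j.1)) ((secC π D.toMod j.1).symm m))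
  rw [secC_symm_mapTop, PDatum.evG_mapTop]
  refine (PDatum.evG_map (D := D) (j' := j') (j := j) (π.map β) (α := 𝟙 (π.obj j.1))
    ((Category.comp_id _).trans (Category.id_comp _).symm) _).symm.trans ?_
  exact isAct_unique h𝒳 hlift hinv j'.2 (isAct_act h𝒳 hlift hinv j'.2 _ _) (isAct_map π F hinv β _)

end Groth.L23.TwDesc
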