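import Groth.Agent.L23.TwDesc.Gerbe.Band
import Groth.Agent.L23.RelGen.TensorTransport

/-!
# The descent datum of a module with trivial action of the band
-/

universe w' v' w v u

open CategoryTheory CategoryTheory.Limits AlgebraicGeometry Opposite TopologicalSpace
open scoped TensorProduct

set_option backward.isDefEq.respectTransparency false
set_option backward.isDefEq.respectTransparency.types false
set_option linter.style.haveILetI false
set_option linter.unusedSectionVars false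
set_option linter.unusedVariables false

noncomputable section

namespace Groth.L23.TwDesc

open StMod
open Groth.L23.RelGen
open Groth.L23.RelGen.PB (fnMap_comp_apply flat_fnMap)

variable {S : Scheme.{u}} {𝒳 : BasedCategory.{v, w} (Over S)} {𝒴 : BasedCategory.{v', w'} (Over S)} (π : 𝒳 ⥤ᵇ 𝒴)

/-- Functions on an image as functions on the object. -/
abbrev cY (x : 𝒳.obj) : Fn (π.obj x) →+* Fn x := castFn (sch_obj_eq π x).symm

theorem castFn_cY (x : 𝒳.obj) (r : Fn (π.obj x)) : castFn (sch_obj_eq π x) (cY π x r) = r := by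
  show ((eqToHom (sch_obj_eq π x).symm).appTop ≫ (eqToHom (sch_obj_eq π x)).appTop) r = r
  rw [← Scheme.Hom.comp_appTop, eqToHom_trans, eqToHom_refl, Scheme.Hom.id_appTop]
  rfl

theorem cY_castFn (x : 𝒳.obj) (r : Fn x) : cY π x (castFn (sch_obj_eq π x) r) = r :=
  (castFn_bijective π x).1 (castFn_cY π x _)

theorem cY_natural {z x : 𝒳.obj} (a : z ⟶ x) (r : Fn (π.obj x)) :
    fnMap a (cY π x r) = cY π z (fnMap (π.map a) r) := by
  refine (castFn_bijective π z).1 ?_
  rw [castFn_cY, castFn_natural, castFn_cY]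

theorem cY_bijective (x : 𝒳.obj) : Function.Bijective (cY π x) :=
  Function.bijective_iff_has_inverse.2 ⟨castFn (sch_obj_eq π x), castFn_cY π x, cY_castFn π x⟩

variable (F : QCoh 𝒳)

/-- Sections of a module as a module over the functions on the image. -/
def secMod (x : 𝒳.obj) : ModuleCat.{u} (Fn (π.obj x)) :=
  letI := Module.compHom (Sec F.obj x) (cY π x)
  ModuleCat.of (Fn (π.obj x)) (Sec F.obj x)

theorem secMod_smul (x : 𝒳.obj) (r : Fn (π.obj x)) (m : secMod π F x) :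
    r • m = (show secMod π F x from cY π x r • (show Sec F.obj x from m)) := rfl

/-- The value of a restriction along a morphism of images. -/
def IsAct {x' x : 𝒳.obj} (β : π.obj x' ⟶ π.obj x) (m : Sec F.obj x) (m' : Sec F.obj x') : Prop :=
  ∀ (z : 𝒳.obj) (_ : IsAffine (sch 𝒳 z)) (a : z ⟶ x') (k : z ⟶ x),
    π.map k = π.map a ≫ β → F.obj.mapTop a m' = F.obj.mapTop k m

theorem isAct_map {x' x : 𝒳.obj}
    (hinv : ∀ {z y : 𝒳.obj} (k k' : z ⟶ y), π.map k = π.map k' → ∀ m : Sec F.obj y,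
      F.obj.mapTop k m = F.obj.mapTop k' m)
    (f : x' ⟶ x) (m : Sec F.obj x) : IsAct π F (π.map f) m (F.obj.mapTop f m) := by
  intro z _ a k h
  rw [← Mod.mapTop_comp]
  exact hinv _ _ (by rw [π.toFunctor.map_comp, h]) m

variable {π F}

section Act

variable (h𝒳 : FibCat.IsFibGrpd 𝒳.p)
  (hlift : ∀ {x' x : 𝒳.obj}, IsAffine (sch 𝒳 x') → ∀ β : π.obj x' ⟶ π.obj x,
    ∃ 𝒵 : Cover x', Finite 𝒵.ι ∧ ∀ l, ∃ k : 𝒵.obj l ⟶ x, π.map k = π.map (𝒵.map l) ≫ β)
  (hinv : ∀ {z y : 𝒳.obj} (k k' : z ⟶ y), π.map k = π.map k' → ∀ m : Sec F.obj y,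
    F.obj.mapTop k m = F.obj.mapTop k' m)
include h𝒳 hlift hinv

theorem isAct_unique {x' x : 𝒳.obj} (hx' : IsAffine (sch 𝒳 x')) {β : π.obj x' ⟶ π.obj x} {m : Sec F.obj x}
    {m₁ m₂ : Sec F.obj x'} (h₁ : IsAct π F β m m₁) (h₂ : IsAct π F β m m₂) : m₁ = m₂ := by
  haveI := hx'
  obtain ⟨𝒵, -, h⟩ := hlift hx' β
  refine 𝒵.ext F.property.1 F.property.2 _ _ fun l => ?_
  obtain ⟨k, hk⟩ := h l
  exact (h₁ _ (𝒵.affine l) _ k hk).trans (h₂ _ (𝒵.affine l) _ k hk).symm

theorem exists_isAct {x' x : 𝒳.obj} (hx' : IsAffine (sch 𝒳 x')) (β : π.obj x' ⟶ π.obj x) (m : Sec F.obj x) :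
    ∃ m', IsAct π F β m m' := by
  haveI := hx'
  obtain ⟨𝒵, hfin, h⟩ := hlift hx' β
  haveI := hfin
  choose k hk using h
  obtain ⟨m', hm'⟩ := 𝒵.exists_glue h𝒳 F.property.1 F.property.2 (fun l => F.obj.mapTop (k l) m)
    (fun z hz i l p q e => by
      rw [← Mod.mapTop_comp, ← Mod.mapTop_comp]
      refine hinv _ _ ?_ m
      rw [π.toFunctor.map_comp, π.toFunctor.map_comp, hk, hk, ← Category.assoc, ← Category.assoc,
        ← π.toFunctor.map_comp, ← π.toFunctor.map_comp, e])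
  refine ⟨m', fun z hz a j h => ?_⟩
  haveI := hz
  obtain ⟨𝒲, -, h𝒲⟩ := 𝒵.exists_pullback h𝒳 a
  refine 𝒲.ext F.property.1 F.property.2 _ _ fun n => ?_
  obtain ⟨l, t, ht⟩ := h𝒲 n
  rw [← Mod.mapTop_comp, ← ht, Mod.mapTop_comp, hm', ← Mod.mapTop_comp, ← Mod.mapTop_comp]
  refine hinv _ _ ?_ m
  rw [π.toFunctor.map_comp, π.toFunctor.map_comp, hk, h, ← Category.assoc, ← Category.assoc,
    ← π.toFunctor.map_comp, ← π.toFunctor.map_comp, ht]

theorem isAct_comp {x'' x' x : 𝒳.obj} (hx'' : IsAffine (sch 𝒳 x'')) {β : π.obj x'' ⟶ π.obj x'}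
    {γ : π.obj x' ⟶ π.obj x} {m : Sec F.obj x} {m' : Sec F.obj x'} {m'' : Sec F.obj x''}
    (h : IsAct π F γ m m') (h' : IsAct π F β m' m'') : IsAct π F (β ≫ γ) m m'' := by
  intro z hz a k hk
  haveI := hz
  obtain ⟨𝒲, -, h𝒲⟩ := hlift hz (π.map a ≫ β)
  refine 𝒲.ext F.property.1 F.property.2 _ _ fun n => ?_
  obtain ⟨k₁, hk₁⟩ := h𝒲 n
  rw [← Mod.mapTop_comp, h' _ (𝒲.affine n) (𝒲.map n ≫ a) k₁ (by rw [hk₁, π.toFunctor.map_comp, Category.assoc]),
    h _ (𝒲.affine n) k₁ (𝒲.map n ≫ k) (by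
      rw [hk₁, π.toFunctor.map_comp, hk, Category.assoc, Category.assoc]), Mod.mapTop_comp]

/-- Restriction along a morphism of images. -/
def act {x' x : 𝒳.obj} (hx' : IsAffine (sch 𝒳 x')) (β : π.obj x' ⟶ π.obj x) :
    secMod π F x →ₛₗ[fnMap β] secMod π F x' where
  toFun m := (exists_isAct h𝒳 hlift hinv hx' β m).choose
  map_add' m₁ m₂ := by
    refine isAct_unique h𝒳 hlift hinv hx' (m := (show Sec F.obj x from m₁) + (show Sec F.obj x from m₂))
      (exists_isAct h𝒳 hlift hinv hx' β _).choose_spec ?_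
    intro z hz a k hk
    exact (F.obj.mapTop_add _ _ _).trans ((congrArg₂ (· + ·) ((exists_isAct h𝒳 hlift hinv hx' β m₁).choose_spec z hz a k hk)
      ((exists_isAct h𝒳 hlift hinv hx' β m₂).choose_spec z hz a k hk)).trans (F.obj.mapTop_add _ _ _).symm)
  map_smul' r m := by
    refine isAct_unique h𝒳 hlift hinv hx' (m := cY π x r • (show Sec F.obj x from m))
      (exists_isAct h𝒳 hlift hinv hx' β _).choose_spec ?_
    intro z hz a k hk
    show F.obj.mapTop a (cY π x' (fnMap β r) • (exists_isAct h𝒳 hlift hinv hx' β m).choose) = _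
    rw [Mod.mapTop_smul, Mod.mapTop_smul, (exists_isAct h𝒳 hlift hinv hx' β m).choose_spec z hz a k hk]
    refine congrArg (fun s : Fn z => s • F.obj.mapTop k m) ?_
    show fnMap a (cY π x' (fnMap β r)) = fnMap k (cY π x r)
    rw [cY_natural, cY_natural, hk, fnMap_comp_apply]

theorem isAct_act {x' x : 𝒳.obj} (hx' : IsAffine (sch 𝒳 x')) (β : π.obj x' ⟶ π.obj x) (m : secMod π F x) :
    IsAct π F β m (act h𝒳 hlift hinv hx' β m) :=
  (exists_isAct h𝒳 hlift hinv hx' β m).choose_spec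

/-- Base change along a morphism of the gerbe, read on images. -/
theorem exists_bcMap {z x : 𝒳.obj} (hz : IsAffine (sch 𝒳 z)) (hx : IsAffine (sch 𝒳 x)) (k : z ⟶ x) :
    letI := (fnMap (π.map k)).toAlgebra
    ∃ E : Fn (π.obj z) ⊗[Fn (π.obj x)] secMod π F x ≃+ secMod π F z,
      ∀ r m, E (r ⊗ₜ m) = r • (show secMod π F z from F.obj.mapTop k m) := by
  haveI := hz
  haveI := hx
  letI := (fnMap (π.map k)).toAlgebra
  letI := (fnMap k).toAlgebra
  obtain ⟨E, hE⟩ := exists_bcEquiv F.property.1 F.property.2 k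
  obtain ⟨Θ, hΘ⟩ := exists_tensorTransport (R := Fn (π.obj x)) (R' := Fn (π.obj z)) (R₂ := Fn x) (R₂' := Fn z)
    (M := secMod π F x) (M₂ := Sec F.obj x) (cY π x) (cY_bijective π x) (cY π z) (cY_bijective π z)
    (fun r => (cY_natural π k r).symm) (AddMonoidHom.id _) Function.bijective_id (fun r m => rfl)
  exact ⟨Θ.trans E, fun r m => by
    show E (Θ (r ⊗ₜ m)) = _
    rw [hΘ, hE]
    rfl⟩

theorem exists_bc_act {x' x : 𝒳.obj} (hx' : IsAffine (sch 𝒳 x')) (hx : IsAffine (sch 𝒳 x))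
    (β : π.obj x' ⟶ π.obj x) :
    letI := (fnMap β).toAlgebra
    ∃ E : Fn (π.obj x') ⊗[Fn (π.obj x)] secMod π F x ≃+ secMod π F x',
      ∀ r m, E (r ⊗ₜ m) = r • act h𝒳 hlift hinv hx' β m := by
  obtain ⟨𝒵, -, hlk⟩ := hlift hx' β
  choose k hk using hlk
  haveI := isAffine_map_obj π hx'
  haveI := fun l => isAffine_map_obj π (𝒵.affine l)
  letI := (fnMap β).toAlgebra
  letI : ∀ l, Algebra (Fn (π.obj x')) (Fn (π.obj (𝒵.obj l))) := fun l => (fnMap (π.map (𝒵.map l))).toAlgebra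
  have hcov : Groth.L19.QCohFpqc.IsCov (fun l => bmap 𝒴 (π.map (𝒵.map l))) := by
    refine ⟨fun l => ?_, fun q => ?_⟩
    · haveI := 𝒵.cov.flat l
      rw [bmap_map]
      infer_instance
    · obtain ⟨l, w, hw⟩ := 𝒵.cov.surj (eqToHom (sch_obj_eq π x') q)
      refine ⟨l, eqToHom (sch_obj_eq π (𝒵.obj l)).symm w, ?_⟩
      rw [bmap_map, ← Scheme.Hom.comp_apply, eqToHom_trans_assoc, eqToHom_refl, Category.id_comp,
        Scheme.Hom.comp_apply, hw, ← Scheme.Hom.comp_apply, eqToHom_trans, eqToHom_refl]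
      rfl
  haveI : ∀ l, Module.Flat (Fn (π.obj x')) (Fn (π.obj (𝒵.obj l))) := fun l =>
    flat_fnMap (π.map (𝒵.map l)) inferInstance inferInstance (hcov.flat l)
  letI : Module (Fn (π.obj x)) (secMod π F x') := Module.compHom _ (fnMap β)
  haveI : IsScalarTower (Fn (π.obj x)) (Fn (π.obj x')) (secMod π F x') :=
    IsScalarTower.of_algebraMap_smul fun _ _ => rfl
  let L : secMod π F x →ₗ[Fn (π.obj x)] secMod π F x' :=
    { toFun := act h𝒳 hlift hinv hx' β, map_add' := map_add _,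
      map_smul' := (act h𝒳 hlift hinv hx' β).map_smulₛₗ }
  let f := L.liftBaseChange (Fn (π.obj x'))
  have hf : ∀ r m, f (r ⊗ₜ m) = r • act h𝒳 hlift hinv hx' β m := fun r m => LinearMap.liftBaseChange_tmul _ L r m
  have hE₁ : ∀ l, ∃ E : Fn (π.obj (𝒵.obj l)) ⊗[Fn (π.obj x')] (Fn (π.obj x') ⊗[Fn (π.obj x)] secMod π F x) ≃+
      secMod π F (𝒵.obj l), ∀ b r m, E (b ⊗ₜ (r ⊗ₜ m)) =
        (b * fnMap (π.map (𝒵.map l)) r) • (show secMod π F (𝒵.obj l) from F.obj.mapTop (k l) m) := fun l => by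
    obtain ⟨E₀, hE₀⟩ := exists_bcMap h𝒳 hlift hinv (𝒵.affine l) hx (k l)
    letI : Algebra (Fn (π.obj x)) (Fn (π.obj (𝒵.obj l))) := (fnMap (π.map (k l))).toAlgebra
    exact exists_bc_trans (R := Fn (π.obj x)) (R' := Fn (π.obj x')) (V := Fn (π.obj x))
      (B := Fn (π.obj (𝒵.obj l))) (N := secMod π F x)
      (fun r => by
        show fnMap (π.map (𝒵.map l)) (fnMap β r) = fnMap (π.map (k l)) r
        rw [hk, fnMap_comp_apply])
      _root_.id (TensorProduct.lid _ _).toAddEquiv (fun r m => TensorProduct.lid_tmul m r)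
      (fun m => (show secMod π F (𝒵.obj l) from F.obj.mapTop (k l) m))
      (fun r n => by
        show F.obj.mapTop (k l) (cY π x r • (show Sec F.obj x from n)) = _
        rw [Mod.mapTop_smul]
        show fnMap (k l) (cY π x r) • F.obj.mapTop (k l) n = _
        rw [cY_natural]
        rfl) E₀ hE₀
  choose E₁ hE₁ using hE₁
  choose E₂ hE₂ using fun l => exists_bcMap h𝒳 hlift hinv (𝒵.affine l) hx' (𝒵.map l)
  have hbij := bijective_of_descent (fun l => Fn (π.obj (𝒵.obj l)))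
    (Groth.L19.QCohFpqc.IsCov.prime_lift (fun l => bmap 𝒴 (π.map (𝒵.map l))) hcov) f
    (fun l => (secMod π F (𝒵.obj l) : Type u)) E₁ E₂ fun l b n => by
      induction n using TensorProduct.induction_on with
      | zero => rw [map_zero, TensorProduct.tmul_zero, TensorProduct.tmul_zero, map_zero, map_zero]
      | tmul r m =>
        rw [hf, hE₁, hE₂, mul_smul]
        refine congrArg (fun a => b • a) ?_
        show F.obj.mapTop (𝒵.map l) (cY π x' r • (show Sec F.obj x' from act h𝒳 hlift hinv hx' β m)) = _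
        rw [Mod.mapTop_smul, isAct_act h𝒳 hlift hinv hx' β m _ (𝒵.affine l) _ (k l) (hk l)]
        show fnMap (𝒵.map l) (cY π x' r) • F.obj.mapTop (k l) m = _
        rw [cY_natural]
        rfl
      | add n n' h h' => rw [map_add, TensorProduct.tmul_add, TensorProduct.tmul_add, map_add, map_add, h, h']
  exact ⟨(LinearEquiv.ofBijective f hbij).toAddEquiv, hf⟩

end Act

end Groth.L23.TwDesc
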